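import Groth.Agent.DevLib.Engine
import Groth.Agent.ShStabLib.Core
import Groth.Agent.HilbLib.DimPts

/-! Sections of pure one-dimensional modules vanishing at the non-closed points of the support. -/

set_option autoImplicit false
set_option backward.isDefEq.respectTransparency false
set_option linter.style.haveILetI false

universe u

open CategoryTheory CategoryTheory.Limits AlgebraicGeometry TopologicalSpace Opposite
open Groth.Agent.PullbackMod Groth.Agent.QCohLib

noncomputable section

namespace Groth.Agent.PureKill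

open Groth.Agent.DevLib

variable {X : Scheme.{u}}

/-- A maximal point of a closed subset above a given one. -/
theorem exists_top_point_above [NoetherianSpace X] {C : Set X} (hC : IsClosed C) {y : X} (hy : y ∈ C) :
    ∃ ξ ∈ C, ξ ⤳ y ∧ ∃ W₀ : X.Opens, ξ ∈ W₀ ∧ ∀ z ∈ W₀, z ∈ C → ξ ⤳ z := by
  classical
  obtain ⟨S, hirr, hsup⟩ := NoetherianSpace.exists_finset_irreducible (⟨C, hC⟩ : Closeds X)
  have hmem : ∀ z, z ∈ C ↔ ∃ k ∈ S, z ∈ k := fun z => by
    rw [← mem_sup_closeds, ← hsup]
    rfl
  obtain ⟨k₀, hk₀, hyk₀⟩ := (hmem y).1 hy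
  obtain ⟨Z, hk₀Z, hZ⟩ := S.exists_le_maximal hk₀
  have hZi : IsIrreducible (Z : Set X) := hirr ⟨Z, hZ.1⟩
  obtain ⟨ξ, hξ⟩ := QuasiSober.sober hZi Z.isClosed
  refine ⟨ξ, (hmem ξ).2 ⟨Z, hZ.1, hξ.mem⟩, hξ.specializes (hk₀Z hyk₀), ((S.erase Z).sup id).compl,
    fun hmem' => ?_, fun z hz hzC => ?_⟩
  · obtain ⟨k, hk, hξk⟩ := (mem_sup_closeds _ _).1 hmem'
    have hle : Z ≤ k := fun w hw => (hξ.specializes hw).mem_closed k.isClosed hξk
    exact (Finset.ne_of_mem_erase hk) (le_antisymm (hZ.2 (Finset.mem_of_mem_erase hk) hle) hle)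
  · obtain ⟨k, hk, hzk⟩ := (hmem z).1 hzC
    by_cases hkZ : k = Z
    · exact hξ.specializes (hkZ ▸ hzk)
    · exact absurd ((mem_sup_closeds _ _).2 ⟨k, Finset.mem_erase.2 ⟨hkZ, hk⟩, hzk⟩) hz

/-- A section with zero germs at all non-closed points of the support of a pure module of dimension one vanishes. -/
theorem eq_zero_of_pure [AlgebraicGeometry.IsNoetherian X] (C : Closeds X) : ∀ {G : X.Modules}, Coh.IsCoh G →
    ShStab.IsPure X G 1 → CohB1.support G ⊆ (C : Set X) →
    ∀ (V : X.Opens) (s : Γ(G, V)),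
      (∀ y (hy : y ∈ V), y ∈ CohB1.support G → ¬ IsClosed ({y} : Set X) → G.presheaf.germ V y hy s = 0) → s = 0 := by
  induction C using WellFoundedLT.induction with
  | _ C IH =>
    intro G hG hp hC V s hs
    haveI := hG.1
    by_cases hex : ∃ y ∈ CohB1.support G, ¬ IsClosed ({y} : Set X)
    · obtain ⟨y, hy, hyc⟩ := hex
      obtain ⟨η, hη, hηy, W₀, hηW, hW₀⟩ := exists_top_point_above (DevLib.isClosed_support hG) hy
      have hηc : ¬ IsClosed ({η} : Set X) := fun h => by
        have : y = η := Set.mem_singleton_iff.1 (hηy.mem_closed h rfl)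
        exact hyc (this ▸ h)
      let B : Submodule (X.presheaf.stalk η) (G.presheaf.stalk η) := ⊥
      have hB : Absorbs B := absorbs_bot hηW hW₀
      obtain ⟨t, rfl⟩ := (exists_app_subAtι B V s).2 fun hx => (Submodule.mem_bot _).2 (hs η hx hη hηc)
      have hlt : (⟨_, DevLib.isClosed_support (isCoh_subAt hG hB)⟩ : Closeds X) < C :=
        lt_of_le_of_ne (show CohB1.support (subAt B) ⊆ (C : Set X) from (DevLib.support_subset_of_mono (subAtι B)).trans hC)
          fun he => (subsingleton_subAt_bot : η ∉ CohB1.support (subAt B)) (SetLike.ext_iff.1 he η |>.2 (hC hη))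
      have ht : t = 0 := IH _ hlt (isCoh_subAt hG hB) (ShStabLib.isPure_of_mono hp (subAtι B)) subset_rfl V t
        fun z hz hzs hzc => injective_stalk_subAtι B z (by
          rw [map_zero, stalkLin_germ]
          exact hs z hz (DevLib.support_subset_of_mono (subAtι B) hzs) hzc)
      rw [ht, map_zero]
    · push Not at hex
      by_contra hne
      have h0 : ¬ IsZero G := fun h => hne (congrArg (fun g : G ⟶ G => g.app V s) (h.eq_of_src (𝟙 G) 0))
      have hdim := hp G (𝟙 G) inferInstance hG h0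
      obtain ⟨p, hpA, hpp⟩ := (HilbLib.not_dim_lt_iff (DevLib.isClosed_support hG) 1).1 (by rw [hdim]; exact lt_irrefl _)
      obtain ⟨h1, h2⟩ := hpp 0 1 (by decide)
      exact h2 (Set.mem_singleton_iff.1 (h1.mem_closed (hex _ (hpA 1)) rfl))

end Groth.Agent.PureKill
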